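import Cfsg.Agent.H221.TC.Cor
import Cfsg.Agent.H727.TC.MidB
import Cfsg.Agent.H938.Pw.Avg
import Cfsg.Agent.H180.F43.Gal
import Cfsg.Agent.H777.T6.Defs

/-!
# S2464, `F₄(5)`, `F₄(7)`, `F₄(17)`: the assembly, for an abstract group (helper357)

`T` : a clean torus of order `n₁` (`q⁴ - q² + 1`), `|N(T) : T| = 12`, the constant values on `T - 1` are `0`, `±1`;
`Q` : a group of prime order `r₂ = 8 t + 1` (`(q⁴ + 1) / 2`) with its column `W` (values `0`, `±t`, `±1`).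

* `exists_c` : the constant values `c χ` on `T - 1`; every `χ` with `W χ ≠ 0` is constant on `T - 1`, and then
  `c χ ≠ 0` implies `W χ = ±t`;
* `asm` : from the list of the possible degrees and a bound for `|C(g)|` to the two classes.
-/

set_option autoImplicit false
set_option linter.unusedSectionVars false

open Cfsg Subgroup
open scoped ComplexConjugate

namespace Cfsg.Agent.H357.T6.Asm

open Cfsg.Agent.Characters Cfsg.Agent.Characters.Core Cfsg.Agent.H65.Ore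
open Cfsg.Agent.H653.Sieve

universe u

variable {G : Type u} [Group G] [Finite G] [Fintype (IrrCharacter G)]

/-- the orbit of a character with `W χ = ±1` has at least `t` elements -/
theorem orbit_ge {r t m : ℕ} (ht : 8 * t + 1 = r) (hm : 0 < m) {w : ℤ} (hw : w = 1 ∨ w = -1)
    (h : ((r - 1 : ℕ) : ℤ) ∣ (m : ℤ) * (8 * w)) : t ≤ m := by
  have h1 : r - 1 = 8 * t := by omega
  rw [h1] at h
  have h2 : ((8 * t : ℕ) : ℤ) ∣ ((8 * m : ℕ) : ℤ) := by
    rcases hw with rfl | rfl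
    · have e : ((8 * m : ℕ) : ℤ) = (m : ℤ) * (8 * 1) := by push_cast; ring
      rw [e]; exact h
    · have e : ((8 * m : ℕ) : ℤ) = -((m : ℤ) * (8 * -1)) := by push_cast; ring
      rw [e]; exact (dvd_neg).2 h
  have h3 : 8 * t ∣ 8 * m := by exact_mod_cast h2
  have h4 := Nat.le_of_dvd (by omega) h3
  omega

theorem not_dvd_orderOf_of_mem {T : Subgroup G} {n₁ r : ℕ} (hT : Nat.card T = n₁) (hr : r.Prime) (hn : n₁.Coprime r)
    {a : G} (ha : a ∈ T) : ¬ r ∣ orderOf a := by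
  intro h
  have h1 : orderOf a ∣ n₁ := hT ▸ Subgroup.orderOf_dvd_natCard T ha
  have h2 : r ∣ n₁ := h.trans h1
  exact (hr.coprime_iff_not_dvd.1 hn.symm) h2

theorem not_isConj_of {T : Subgroup G} {n₁ r : ℕ} (hT : Nat.card T = n₁) (hr : r.Prime) (hn : n₁.Coprime r)
    {g : G} (hg : r ∣ orderOf g) (x a : G) (ha : a ∈ T) : g ≠ x * a * x⁻¹ := by
  rintro rfl
  have h3 : orderOf (x * a * x⁻¹) = orderOf a := by
    have := orderOf_injective (MulAut.conj x).toMonoidHom (MulAut.conj x).injective a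
    simpa using this
  rw [h3] at hg
  exact not_dvd_orderOf_of_mem hT hr hn ha hg

theorem orderOf_of_mem_prime {Q : Subgroup G} {r : ℕ} (hr : r.Prime) (hQ : Nat.card Q = r) {y : G} (hy : y ∈ Q)
    (hy1 : y ≠ 1) : orderOf y = r := by
  have h1 : orderOf y ∣ r := hQ ▸ Subgroup.orderOf_dvd_natCard Q hy
  rcases (Nat.dvd_prime hr).1 h1 with h | h
  · exact absurd (orderOf_eq_one_iff.1 h) hy1
  · exact h

/-- **The constant values.** -/
theorem exists_c {T Q : Subgroup G} {n₁ r₂ t : ℕ} {W : IrrCharacter G → ℤ}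
    (hab : ∀ a ∈ T, ∀ b ∈ T, a * b = b * a)
    (hc : ∀ a ∈ T, a ≠ 1 → Subgroup.centralizer ({a} : Set G) ≤ T)
    (hw : T.relIndex (normalizer (T : Set G)) = 12) (hT : Nat.card T = n₁) (h200 : 200 ≤ n₁)
    (hr₂ : r₂.Prime) (hQ : Nat.card Q = r₂) (hn : n₁.Coprime r₂) (ht : 8 * t + 1 = r₂) (ht13 : 13 ≤ t)
    (hW : IsCol Q 8 W) (hWv : ∀ χ, W χ = 0 ∨ W χ = t ∨ W χ = -t ∨ W χ = 1 ∨ W χ = -1)
    (hWsq : ∑ χ : IrrCharacter G, W χ * W χ = ((2 * r₂ * t : ℕ) : ℤ))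
    (hgal : ∀ χ : IrrCharacter G, ∃ S : Finset (IrrCharacter G), χ ∈ S ∧
      ((r₂ - 1 : ℕ) : ℤ) ∣ (S.card : ℤ) * (8 * W χ) ∧
      ∀ ψ ∈ S, ∀ g : G, ¬ r₂ ∣ orderOf g → (ψ : G → ℂ) g = (χ : G → ℂ) g) :
    ∃ c : IrrCharacter G → ℤ,
      (∀ χ : IrrCharacter G, W χ ≠ 0 → ∀ a ∈ T, a ≠ 1 → (χ : G → ℂ) a = c χ) ∧
      (∀ χ : IrrCharacter G, c χ ≠ 0 → ∀ a ∈ T, a ≠ 1 → (χ : G → ℂ) a = c χ) ∧
      ∑ χ : IrrCharacter G, c χ ^ 2 = 12 ∧
      ∀ χ : IrrCharacter G, c χ ≠ 0 → W χ = 0 ∨ W χ = t ∨ W χ = -t := by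
  classical
  have hk : 12 * (12 + 2) + 1 < Nat.card T := by rw [hT]; omega
  obtain ⟨c, h1, h2, h3, n, M, hinj, hn3, hn1, hM, hMM⟩ := H221.TC.sum_sq hab hc hw hk
  have hreg : ∀ a ∈ T, ¬ r₂ ∣ orderOf a := fun a ha => not_dvd_orderOf_of_mem hT hr₂ hn ha
  have hcc : ∀ χ : IrrCharacter G, c χ ≠ 0 → ∀ a ∈ T, a ≠ 1 → (χ : G → ℂ) a = c χ := by
    intro χ hχ
    by_cases hcon : ∃ z : ℂ, ∀ t ∈ T, t ≠ 1 → (χ : G → ℂ) t = z
    · exact h1 χ hcon
    · exact absurd (h2 χ hcon) hχ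
  -- characters with `c χ ≠ 0`
  have hii : ∀ χ : IrrCharacter G, c χ ≠ 0 → ¬ (W χ = 1 ∨ W χ = -1) := by
    intro χ hχ hW1
    obtain ⟨S, hS, hd, hSv⟩ := hgal χ
    have h4 : t ≤ S.card := orbit_ge ht (Finset.card_pos.2 ⟨χ, hS⟩) hW1 hd
    have h5 : S.card ≤ 12 := H221.TC.card_le hab hc hw hk S fun ψ hψ =>
      ⟨c χ, hχ, fun a ha ha1 => by rw [hSv ψ hψ a (hreg a ha)]; exact hcc χ hχ a ha ha1⟩
    omega
  -- nonconstant characters
  have hiii : ∀ χ : IrrCharacter G, (¬ ∃ z : ℂ, ∀ t ∈ T, t ≠ 1 → (χ : G → ℂ) t = z) →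
      ¬ (W χ = 1 ∨ W χ = -1) := by
    intro χ hχ hW1
    obtain ⟨S, hS, hd, hSv⟩ := hgal χ
    have h4 : t ≤ S.card := orbit_ge ht (Finset.card_pos.2 ⟨χ, hS⟩) hW1 hd
    obtain ⟨θ, hθ, hne⟩ := Finset.exists_mem_ne (show 1 < S.card by omega) χ
    have hθn : ¬ ∃ z : ℂ, ∀ t ∈ T, t ≠ 1 → (θ : G → ℂ) t = z := by
      rintro ⟨z, hz⟩
      exact hχ ⟨z, fun a ha ha1 => by rw [← hSv θ hθ a (hreg a ha)]; exact hz a ha ha1⟩
    obtain ⟨i, hi⟩ := (hM χ).1 hχ
    obtain ⟨j, hj⟩ := (hM θ).1 hθn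
    apply hne
    apply Subtype.ext
    funext g
    by_cases hg : ∀ x : G, ∀ a ∈ T, a ≠ 1 → g ≠ x * a * x⁻¹
    · have h5 := hMM j i g hg
      rw [← hi, ← hj] at h5
      exact h5
    · push Not at hg
      obtain ⟨x, a, ha, ha1, hga⟩ := hg
      apply hSv θ hθ g
      intro h6
      exact not_isConj_of hT hr₂ hn h6 x a ha hga
  have hWM : ∀ i j, W (M i) = W (M j) := by
    intro i j
    have h5 : csum Q (M i : G → ℂ) = csum Q (M j : G → ℂ) := by
      have := Fintype.ofFinite Q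
      rw [csum_eq_erase, csum_eq_erase]
      refine Finset.sum_congr rfl fun y hy => ?_
      have hy1 : (y : G) ≠ 1 := fun e => (Finset.mem_erase.1 hy).1 (Subtype.ext e)
      apply hMM
      intro x a ha _
      exact not_isConj_of hT hr₂ hn (by rw [orderOf_of_mem_prime hr₂ hQ y.2 hy1]) x a ha
    rw [← hW (M i), ← hW (M j)] at h5
    have h6 := mul_left_cancel₀ (by norm_num) h5
    exact_mod_cast h6
  have hiv : ∀ χ : IrrCharacter G, (¬ ∃ z : ℂ, ∀ t ∈ T, t ≠ 1 → (χ : G → ℂ) t = z) → W χ = 0 := by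
    intro χ hχ
    by_contra h0
    have h5 := hiii χ hχ
    obtain ⟨i, rfl⟩ := (hM χ).1 hχ
    have h6 : W (M i) * W (M i) = (t : ℤ) * t := by
      rcases hWv (M i) with h | h | h | h | h
      · exact absurd h h0
      · rw [h]
      · rw [h]; ring
      · exact absurd (Or.inl h) h5
      · exact absurd (Or.inr h) h5
    have h7 : (n : ℤ) * (t * t) ≤ ((2 * r₂ * t : ℕ) : ℤ) := by
      rw [← hWsq]
      calc (n : ℤ) * (t * t) = ∑ j : Fin n, W (M j) * W (M j) := by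
            rw [Finset.sum_congr rfl (g := fun _ => (t : ℤ) * t) fun j _ => by rw [hWM j i]; exact h6]
            simp
        _ = ∑ χ ∈ Finset.univ.image M, W χ * W χ := by
            rw [Finset.sum_image fun a _ b _ h => hinj h]
        _ ≤ ∑ χ : IrrCharacter G, W χ * W χ :=
            Finset.sum_le_sum_of_subset_of_nonneg (Finset.subset_univ _) fun _ _ _ => mul_self_nonneg _
    have h8 : n * (t * t) ≤ 2 * r₂ * t := by exact_mod_cast h7
    have h9 : (n * t) * t ≤ (2 * r₂) * t := by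
      calc (n * t) * t = n * (t * t) := by ring
        _ ≤ 2 * r₂ * t := h8
    have h10 : n * t ≤ 2 * r₂ := Nat.le_of_mul_le_mul_right h9 (by omega)
    have h11 : 17 ≤ n := by
      rw [hT] at hn1
      omega
    have h12 : 17 * t ≤ n * t := Nat.mul_le_mul_right _ h11
    omega
  refine ⟨c, fun χ hχ => ?_, hcc, by exact_mod_cast h3, fun χ hχ => ?_⟩
  · by_cases hcon : ∃ z : ℂ, ∀ t ∈ T, t ≠ 1 → (χ : G → ℂ) t = z
    · exact h1 χ hcon
    · exact absurd (hiv χ hcon) hχ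
  · have h4 := hii χ hχ
    rcases hWv χ with h | h | h | h | h
    · exact Or.inl h
    · exact Or.inr (Or.inl h)
    · exact Or.inr (Or.inr h)
    · exact absurd (Or.inl h) h4
    · exact absurd (Or.inr h) h4

/-- a `p`-singular element has order prime to `r` if the elements of order `r` have centralizers of order prime to `p` -/
theorem not_dvd_orderOf {p r : ℕ} (hr : r.Prime) (hrG : ¬ r ^ 2 ∣ Nat.card G) {x : G}
    (hx : orderOf x = r) (hcx : ∀ i : ℕ, i.Coprime r → ¬ p ∣ Nat.card (centralizer ({x ^ i} : Set G))) {g : G}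
    (hg : p ∣ orderOf g) : ¬ r ∣ orderOf g := by
  intro h
  have hg0 : 0 < orderOf g := orderOf_pos g
  obtain ⟨k, hk⟩ := h
  have hz : orderOf (g ^ k) = r := by
    have hk0 : k ≠ 0 := by rintro rfl; omega
    rw [orderOf_pow' g hk0, hk, Nat.gcd_eq_right (Dvd.intro_left r rfl)]
    exact Nat.mul_div_cancel _ (Nat.pos_of_ne_zero hk0)
  obtain ⟨i, hi, hconj⟩ := H180.F43.exists_isConj_pow hr hrG hx hz
  obtain ⟨b, hb⟩ := isConj_iff.1 hconj
  apply hcx i hi
  -- `b⁻¹ g b` centralizes `x ^ i`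
  have hmem : b⁻¹ * g * b ∈ centralizer ({x ^ i} : Set G) := by
    rw [mem_centralizer_singleton_iff]
    have h1 : x ^ i = b⁻¹ * g ^ k * b := by rw [← hb]; group
    rw [h1]
    have h2 : g * g ^ k = g ^ k * g := (pow_succ' g k).symm.trans (pow_succ g k)
    calc b⁻¹ * g * b * (b⁻¹ * g ^ k * b) = b⁻¹ * (g * g ^ k) * b := by group
      _ = b⁻¹ * (g ^ k * g) * b := by rw [h2]
      _ = b⁻¹ * g ^ k * b * (b⁻¹ * g * b) := by group
  have h3 : orderOf (b⁻¹ * g * b) = orderOf g := by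
    have := orderOf_injective (MulAut.conj b⁻¹).toMonoidHom (MulAut.conj b⁻¹).injective g
    simpa using this
  exact hg.trans (h3 ▸ Subgroup.orderOf_dvd_natCard _ hmem)

/-- the sum over a group of prime order of a character constant there -/
theorem csum_const {P : Subgroup G} {r : ℕ} (hP : Nat.card P = r) {χ : G → ℂ} {z : ℂ}
    (h : ∀ a ∈ P, a ≠ 1 → χ a = z) : csum P χ = ((r - 1 : ℕ) : ℂ) * z := by
  classical
  have := Fintype.ofFinite P
  rw [csum_eq_erase, Finset.sum_congr rfl (g := fun _ => z) fun (x : P) hx =>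
    h (x : G) x.2 fun e => (Finset.mem_erase.1 hx).1 (Subtype.ext e)]
  rw [Finset.sum_const, Finset.card_erase_of_mem (Finset.mem_univ _), Finset.card_univ,
    ← Nat.card_eq_fintype_card, hP, nsmul_eq_mul]

/-- the class sum of the average at a `p`-singular element -/
theorem avg_sum {P Q : Subgroup G} {W c : IrrCharacter G → ℤ} {r : ℕ} (hP : Nat.card P = r) (hW : IsCol Q 8 W)
    (hcW : ∀ χ : IrrCharacter G, W χ ≠ 0 → ∀ a ∈ P, a ≠ 1 → (χ : G → ℂ) a = c χ) (g : G) :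
    ∑ χ : IrrCharacter G, csum P (χ : G → ℂ) * csum Q (χ : G → ℂ) * conj ((χ : G → ℂ) g) / (χ : G → ℂ) 1 =
      (((r - 1 : ℕ) : ℂ) * 8) * ∑ χ : IrrCharacter G, ((c χ * W χ : ℤ) : ℂ) * conj ((χ : G → ℂ) g) / (χ : G → ℂ) 1 := by
  rw [Finset.mul_sum]
  refine Finset.sum_congr rfl fun χ _ => ?_
  rw [← hW χ]
  by_cases h0 : W χ = 0
  · rw [h0]; simp
  · rw [csum_const hP (hcW χ h0)]
    push_cast
    ring

/-- orthogonality of `c` and `W` -/
theorem orth_c {P Q : Subgroup G} {W c : IrrCharacter G → ℤ} {r : ℕ} (hr : 1 < r) (hP : Nat.card P = r)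
    (hW : IsCol Q 8 W) (hcW : ∀ χ : IrrCharacter G, W χ ≠ 0 → ∀ a ∈ P, a ≠ 1 → (χ : G → ℂ) a = c χ)
    (h : ∀ x ∈ P, ∀ y ∈ Q, x ≠ 1 → y ≠ 1 → ¬ IsConj x y) : ∑ χ : IrrCharacter G, c χ * W χ = 0 := by
  have h1 := sum_csum_mul_conj h
  have h2 : ∀ χ : IrrCharacter G, csum P (χ : G → ℂ) * conj (csum Q (χ : G → ℂ)) =
      (((r - 1 : ℕ) : ℂ) * 8) * ((c χ * W χ : ℤ) : ℂ) := by
    intro χ
    rw [← hW χ]
    by_cases h0 : W χ = 0
    · rw [h0]; simp
    · rw [csum_const hP (hcW χ h0), map_mul, map_natCast, map_intCast]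
      push_cast
      ring
  rw [Finset.sum_congr rfl fun χ _ => h2 χ, ← Finset.mul_sum, mul_eq_zero, ← Int.cast_sum] at h1
  have h3 : (((r - 1 : ℕ) : ℂ) * 8) ≠ 0 := by
    have : r - 1 ≠ 0 := by omega
    exact mul_ne_zero (by exact_mod_cast this) (by norm_num)
  exact_mod_cast h1.resolve_left h3

/-! ### The middle characters -/

/-- middle characters -/
def IsMidC (p : ℕ) (c W : IrrCharacter G → ℤ) (χ : IrrCharacter G) : Prop :=
  χ ≠ one1 G ∧ p ∣ Nat.card G / charDegree (χ : G → ℂ) ∧ c χ ≠ 0 ∧ W χ ≠ 0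

/-- the sum at a `p`-singular element has the terms of the trivial character and of the middle characters only -/
theorem sum_eq_midC {p : ℕ} (hp : p.Prime) (hG : IsLieTypeChar p G) {c W : IrrCharacter G → ℤ} {g : G}
    (hg : p ∣ orderOf g) [DecidablePred (IsMidC p c W)] :
    ∑ χ : IrrCharacter G, ((c χ * W χ : ℤ) : ℂ) * conj ((χ : G → ℂ) g) / (χ : G → ℂ) 1 =
      ((c (one1 G) * W (one1 G) : ℤ) : ℂ) + ∑ χ ∈ Finset.univ.filter (IsMidC p c W),
        ((c χ * W χ : ℤ) : ℂ) * conj ((χ : G → ℂ) g) / (χ : G → ℂ) 1 := by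
  classical
  obtain ⟨st, -, -, hsing, huniq, -⟩ := H727.TC.exists_st hp hG
  rw [← Finset.add_sum_erase Finset.univ _ (Finset.mem_univ (one1 G))]
  congr 1
  · simp [one1_apply]
  · symm
    refine Finset.sum_subset (fun χ hχ => ?_) fun χ hχ hn => ?_
    · rw [Finset.mem_filter] at hχ
      rw [Finset.mem_erase]
      exact ⟨hχ.2.1, Finset.mem_univ _⟩
    · have h1 : ¬ IsMidC p c W χ := fun h => hn (Finset.mem_filter.2 ⟨Finset.mem_univ _, h⟩)
      by_cases hc : c χ = 0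
      · rw [hc]; simp
      by_cases hW : W χ = 0
      · rw [hW]; simp
      have h2 : ¬ p ∣ Nat.card G / charDegree (χ : G → ℂ) := fun h2 =>
        h1 ⟨Finset.ne_of_mem_erase hχ, h2, hc, hW⟩
      rw [huniq χ h2, hsing g hg]
      simp

/-- **The bound.** -/
theorem ne_zero_of_card {p : ℕ} (hp : p.Prime) (hG : IsLieTypeChar p G) {c W : IrrCharacter G → ℤ} {t : ℕ}
    (ht : 0 < t) (h1 : c (one1 G) * W (one1 G) = t) {D n : ℕ} (hn : {χ : IrrCharacter G | IsMidC p c W χ}.ncard ≤ n)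
    (hcW : ∀ χ : IrrCharacter G, IsMidC p c W χ → |c χ * W χ| = t)
    (hD : ∀ χ : IrrCharacter G, IsMidC p c W χ → D ≤ charDegree (χ : G → ℂ)) {g : G} (hg : p ∣ orderOf g)
    (h : n * Nat.card (centralizer ({g} : Set G)) < D ^ 2 + n) :
    ∑ χ : IrrCharacter G, ((c χ * W χ : ℤ) : ℂ) * conj ((χ : G → ℂ) g) / (χ : G → ℂ) 1 ≠ 0 := by
  classical
  rw [sum_eq_midC hp hG hg, h1]
  intro h0
  have hcard : (Finset.univ.filter (IsMidC p c W)).card ≤ n := by
    refine le_trans (le_of_eq ?_) hn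
    rw [Set.ncard_eq_toFinset_card']
    congr 1
    ext χ
    simp
  have hc1 : (1 : ℝ) ≤ (Nat.card (Subgroup.centralizer ({g} : Set G)) : ℝ) := by
    have : 1 ≤ Nat.card (Subgroup.centralizer ({g} : Set G)) := Nat.card_pos
    exact_mod_cast this
  have hDpos : 0 < D ∨ Finset.univ.filter (IsMidC p c W) = ∅ := by
    rcases Nat.eq_zero_or_pos D with rfl | hD0
    · right
      rw [← Finset.card_eq_zero]
      have h2 : n * 1 ≤ n * Nat.card (centralizer ({g} : Set G)) := Nat.mul_le_mul_left n Nat.card_pos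
      omega
    · exact Or.inl hD0
  rcases hDpos with hDpos | hemp
  swap
  · rw [hemp, Finset.sum_empty, add_zero] at h0
    have : (t : ℤ) = 0 := by exact_mod_cast h0
    omega
  have hDR : (0 : ℝ) < (D : ℝ) := by exact_mod_cast hDpos
  have htR : (0 : ℝ) < (t : ℝ) := by exact_mod_cast ht
  have hD' : ∀ χ : IrrCharacter G, IsMidC p c W χ → (D : ℝ) ≤ ‖(χ : G → ℂ) 1‖ := by
    intro χ hχ
    rw [← H686.CharKit.charDegree_irr χ, Complex.norm_natCast]
    exact_mod_cast hD χ hχ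
  -- the sum of the absolute values
  have h2 : (∑ χ ∈ Finset.univ.filter (IsMidC p c W), (1 : ℝ) * ‖(χ : G → ℂ) g‖) ^ 2 < (D : ℝ) ^ 2 := by
    refine (Finset.sum_mul_sq_le_sq_mul_sq _ _ _).trans_lt ?_
    have h3 : ∑ χ ∈ Finset.univ.filter (IsMidC p c W), ‖(χ : G → ℂ) g‖ ^ 2 ≤
        (Nat.card (Subgroup.centralizer ({g} : Set G)) : ℝ) - 1 := by
      rw [← sum_erase_sq]
      refine Finset.sum_le_sum_of_subset_of_nonneg (fun χ hχ => ?_) fun _ _ _ => by positivity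
      rw [Finset.mem_filter] at hχ
      rw [Finset.mem_erase]
      exact ⟨hχ.2.1, Finset.mem_univ _⟩
    have h4 : ∑ χ ∈ Finset.univ.filter (IsMidC p c W), (1 : ℝ) ^ 2 ≤ n := by
      simp only [one_pow, Finset.sum_const, nsmul_eq_mul, mul_one]
      exact_mod_cast hcard
    calc _ ≤ (n : ℝ) * ((Nat.card (Subgroup.centralizer ({g} : Set G)) : ℝ) - 1) :=
          mul_le_mul h4 h3 (Finset.sum_nonneg fun _ _ => by positivity) (by positivity)
      _ < (D : ℝ) ^ 2 := by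
          have h5 : ((n * Nat.card (centralizer ({g} : Set G)) : ℕ) : ℝ) < ((D ^ 2 + n : ℕ) : ℝ) := by exact_mod_cast h
          push_cast at h5
          linarith
  have h3 : ∑ χ ∈ Finset.univ.filter (IsMidC p c W), ‖(χ : G → ℂ) g‖ < D := by
    simp only [one_mul] at h2
    exact lt_of_pow_lt_pow_left₀ 2 hDR.le h2
  have h4 : ∑ χ ∈ Finset.univ.filter (IsMidC p c W),
        ((c χ * W χ : ℤ) : ℂ) * conj ((χ : G → ℂ) g) / (χ : G → ℂ) 1 = -((t : ℤ) : ℂ) := by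
    linear_combination h0
  have h5 := norm_sum_le (Finset.univ.filter (IsMidC p c W))
    (fun χ : IrrCharacter G => ((c χ * W χ : ℤ) : ℂ) * conj ((χ : G → ℂ) g) / (χ : G → ℂ) 1)
  rw [h4, norm_neg, Complex.norm_intCast] at h5
  have h6 : ∑ χ ∈ Finset.univ.filter (IsMidC p c W),
      ‖((c χ * W χ : ℤ) : ℂ) * conj ((χ : G → ℂ) g) / (χ : G → ℂ) 1‖ ≤
      ∑ χ ∈ Finset.univ.filter (IsMidC p c W), (t : ℝ) * ‖(χ : G → ℂ) g‖ / D := by
    refine Finset.sum_le_sum fun χ hχ => ?_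
    have h7 := (Finset.mem_filter.1 hχ).2
    have h8 : (|((c χ * W χ : ℤ) : ℝ)|) = t := by exact_mod_cast hcW χ h7
    rw [norm_div, norm_mul, Complex.norm_conj, Complex.norm_intCast, h8]
    have h9 := hD' χ h7
    gcongr
  rw [← Finset.sum_div, ← Finset.mul_sum] at h6
  have h7 : |((t : ℤ) : ℝ)| = t := by simp
  rw [h7] at h5
  have h8 : (t : ℝ) * (∑ χ ∈ Finset.univ.filter (IsMidC p c W), ‖(χ : G → ℂ) g‖) / D < t := by
    rw [div_lt_iff₀ hDR]
    exact mul_lt_mul_of_pos_left h3 htR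
  linarith

/-- `n ≤ 10` middle characters from the sum of the squares of the constant values -/
theorem ncard_le_ten {p : ℕ} {c W : IrrCharacter G → ℤ} {st : IrrCharacter G}
    (hst : ¬ p ∣ Nat.card G / charDegree (st : G → ℂ)) (hst1 : st ≠ one1 G) (h1 : c (one1 G) ≠ 0) (h2 : c st ≠ 0)
    (h12 : ∑ χ : IrrCharacter G, c χ ^ 2 = 12) : {χ : IrrCharacter G | IsMidC p c W χ}.ncard ≤ 10 := by
  classical
  have h3 : {χ : IrrCharacter G | IsMidC p c W χ}.ncard = (Finset.univ.filter (IsMidC p c W)).card := by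
    rw [Set.ncard_eq_toFinset_card']
    congr 1
    ext χ
    simp
  rw [h3]
  set S := Finset.univ.filter (IsMidC p c W) with hS
  have h4 : st ∉ S := fun h => hst (Finset.mem_filter.1 h).2.2.1
  have h5 : one1 G ∉ insert st S := by
    rw [Finset.mem_insert]
    rintro (h | h)
    · exact hst1 h.symm
    · exact (Finset.mem_filter.1 h).2.1 rfl
  have h6 : ((insert (one1 G) (insert st S)).card : ℤ) ≤ 12 := by
    rw [← h12, Finset.card_eq_sum_ones]
    push_cast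
    calc ∑ χ ∈ insert (one1 G) (insert st S), (1 : ℤ) ≤ ∑ χ ∈ insert (one1 G) (insert st S), c χ ^ 2 := by
          refine Finset.sum_le_sum fun χ hχ => ?_
          have h7 : c χ ≠ 0 := by
            rw [Finset.mem_insert, Finset.mem_insert] at hχ
            rcases hχ with rfl | rfl | hχ
            · exact h1
            · exact h2
            · exact (Finset.mem_filter.1 hχ).2.2.2.1
          have : 0 < c χ ^ 2 := by positivity
          omega
      _ ≤ ∑ χ : IrrCharacter G, c χ ^ 2 :=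
          Finset.sum_le_sum_of_subset_of_nonneg (Finset.subset_univ _) fun _ _ _ => sq_nonneg _
  rw [Finset.card_insert_of_notMem h5, Finset.card_insert_of_notMem h4] at h6
  push_cast at h6
  omega

/-- two middle characters from orthogonality, if all the middle characters have the sign `-` -/
theorem ncard_le_two {p : ℕ} {c W : IrrCharacter G → ℤ} {st : IrrCharacter G} {t : ℕ} (ht : 0 < t)
    (huniq : ∀ ψ : IrrCharacter G, ¬ p ∣ Nat.card G / charDegree (ψ : G → ℂ) → ψ = st)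
    (hst : ¬ p ∣ Nat.card G / charDegree (st : G → ℂ)) (hst1 : st ≠ one1 G)
    (h1 : c (one1 G) * W (one1 G) = t) (h2 : c st * W st ≤ t) (h0 : ∑ χ : IrrCharacter G, c χ * W χ = 0)
    (hneg : ∀ χ : IrrCharacter G, IsMidC p c W χ → c χ * W χ = -t) :
    {χ : IrrCharacter G | IsMidC p c W χ}.ncard ≤ 2 := by
  classical
  have h3 : {χ : IrrCharacter G | IsMidC p c W χ}.ncard = (Finset.univ.filter (IsMidC p c W)).card := by
    rw [Set.ncard_eq_toFinset_card']
    congr 1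
    ext χ
    simp
  rw [h3]
  set S := Finset.univ.filter (IsMidC p c W) with hS
  have h4 : st ∉ S := fun h => hst (Finset.mem_filter.1 h).2.2.1
  have h5 : one1 G ∉ insert st S := by
    rw [Finset.mem_insert]
    rintro (h | h)
    · exact hst1 h.symm
    · exact (Finset.mem_filter.1 h).2.1 rfl
  have h6 : ∑ χ : IrrCharacter G, c χ * W χ = ∑ χ ∈ insert (one1 G) (insert st S), c χ * W χ := by
    symm
    refine Finset.sum_subset (Finset.subset_univ _) fun χ _ hχ => ?_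
    rw [Finset.mem_insert, Finset.mem_insert] at hχ
    push Not at hχ
    by_contra h7
    have h8 : c χ ≠ 0 := by rintro h; rw [h] at h7; simp at h7
    have h9 : W χ ≠ 0 := by rintro h; rw [h] at h7; simp at h7
    have h10 : p ∣ Nat.card G / charDegree (χ : G → ℂ) := by
      by_contra h
      exact hχ.2.1 (huniq χ h)
    exact hχ.2.2 (Finset.mem_filter.2 ⟨Finset.mem_univ _, hχ.1, h10, h8, h9⟩)
  rw [h6, Finset.sum_insert h5, Finset.sum_insert h4, h1,
    Finset.sum_congr rfl (g := fun _ => -(t : ℤ)) fun χ hχ => hneg χ (Finset.mem_filter.1 hχ).2,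
    Finset.sum_const, nsmul_eq_mul] at h0
  have h7 : (S.card : ℤ) * t ≤ 2 * t := by linarith
  have h8 : (S.card : ℤ) ≤ 2 := by
    have : (0 : ℤ) < t := by exact_mod_cast ht
    exact le_of_mul_le_mul_right h7 this
  exact_mod_cast h8

/-- **The assembly.** -/
theorem asm {p : ℕ} (hp : p.Prime) (hG : IsLieTypeChar p G) {T Q : Subgroup G} {n₁ r₁ r₂ t n D : ℕ}
    {W : IrrCharacter G → ℤ} (hab : ∀ a ∈ T, ∀ b ∈ T, a * b = b * a)
    (hc : ∀ a ∈ T, a ≠ 1 → Subgroup.centralizer ({a} : Set G) ≤ T)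
    (hw : T.relIndex (normalizer (T : Set G)) = 12) (hT : Nat.card T = n₁) (h200 : 200 ≤ n₁) (hpT : ¬ p ∣ n₁)
    (hone : ∀ (χ : IrrCharacter G) (c : ℤ), (∀ a ∈ T, a ≠ 1 → (χ : G → ℂ) a = c) → -1 ≤ c ∧ c ≤ 1)
    (hr₁ : r₁.Prime) (hr₁T : r₁ ∣ n₁) (hr₁G : ¬ r₁ ^ 2 ∣ Nat.card G)
    (hr₂ : r₂.Prime) (hQ : Nat.card Q = r₂) (hr₂G : ¬ r₂ ^ 2 ∣ Nat.card G) (hn : n₁.Coprime r₂)
    (hyc : ∀ y ∈ Q, y ≠ 1 → ¬ p ∣ Nat.card (centralizer ({y} : Set G)))
    (ht : 8 * t + 1 = r₂) (ht13 : 13 ≤ t) (hW : IsCol Q 8 W)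
    (hWv : ∀ χ, W χ = 0 ∨ W χ = t ∨ W χ = -t ∨ W χ = 1 ∨ W χ = -1)
    (hWsq : ∑ χ : IrrCharacter G, W χ * W χ = ((2 * r₂ * t : ℕ) : ℤ))
    (hgal : ∀ χ : IrrCharacter G, ∃ S : Finset (IrrCharacter G), χ ∈ S ∧
      ((r₂ - 1 : ℕ) : ℤ) ∣ (S.card : ℤ) * (8 * W χ) ∧
      ∀ ψ ∈ S, ∀ g : G, ¬ r₂ ∣ orderOf g → (ψ : G → ℂ) g = (χ : G → ℂ) g)
    (hdeg : ∀ d : ℕ, d ∣ Nat.card G → ∀ a b : ℤ, (a = 1 ∨ a = -1) → (b = 1 ∨ b = -1) → (n₁ : ℤ) ∣ (d : ℤ) - a →
      (r₂ : ℤ) ∣ (d : ℤ) - b → d < D → d = 1 ∨ ∃ k < (Nat.card G).factorization p, d = p ^ k)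
    (hcount : n = 10 ∨ (n = 2 ∧ ∀ d : ℕ, d ∣ Nat.card G → d * d < Nat.card G →
      ∀ a b : ℤ, (a = 1 ∨ a = -1) → (b = 1 ∨ b = -1) → (n₁ : ℤ) ∣ (d : ℤ) - a → (r₂ : ℤ) ∣ (d : ℤ) - b →
      d = 1 ∨ a * b = -1 ∨ p ^ (Nat.card G).factorization p ∣ d))
    (hcb : ∀ g : G, p ∣ orderOf g → p ∣ (centralizer ({g} : Set G)).index →
      n * Nat.card (centralizer ({g} : Set G)) < D ^ 2 + n) :
    ∃ x y : G, orderOf x = r₁ ∧ orderOf y = r₂ ∧ ∀ g : G, g ≠ 1 → Prd x y g := by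
  classical
  have : Fact p.Prime := ⟨hp⟩
  have : Fact r₁.Prime := ⟨hr₁⟩
  have hsimple : IsSimpleGroup G := H400.LieSimple.isSimple_of_lie hG
  obtain ⟨c, hcW, hcc, hc12, hcv⟩ := exists_c hab hc hw hT h200 hr₂ hQ hn ht ht13 hW hWv hWsq hgal
  -- the element of order `r₁`
  obtain ⟨x', hx'⟩ := exists_prime_orderOf_dvd_card' (G := T) r₁ (by rw [hT]; exact hr₁T)
  set x₀ : G := (x' : G) with hx₀
  have hx : orderOf x₀ = r₁ := by rw [hx₀, Subgroup.orderOf_coe, hx']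
  have hxT : x₀ ∈ T := x'.2
  have hx1 : x₀ ≠ 1 := by rintro h; rw [h, orderOf_one] at hx; exact hr₁.one_lt.ne hx
  set P : Subgroup G := zpowers x₀ with hPdef
  have hP : Nat.card P = r₁ := by rw [hPdef, Nat.card_zpowers, hx]
  have hPT : P ≤ T := by rw [hPdef, zpowers_le]; exact hxT
  -- the element of order `r₂`
  obtain ⟨y₀, hyQ, hy1⟩ : ∃ y ∈ Q, y ≠ 1 := by
    have h1 : 1 < Nat.card Q := by rw [hQ]; exact hr₂.one_lt
    have h2 : Nontrivial Q := Finite.one_lt_card_iff_nontrivial.1 h1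
    obtain ⟨y, hy⟩ := exists_ne (1 : Q)
    exact ⟨y, y.2, fun h => hy (Subtype.ext h)⟩
  have hy : orderOf y₀ = r₂ := orderOf_of_mem_prime hr₂ hQ hyQ hy1
  have hr12 : r₁ ≠ r₂ := by
    rintro rfl
    exact (hr₁.coprime_iff_not_dvd.1 hn.symm) hr₁T
  -- centralizers
  have hTc : ∀ a ∈ T, a ≠ 1 → ¬ p ∣ Nat.card (centralizer ({a} : Set G)) := by
    intro a ha ha1 h
    exact hpT (hT ▸ h.trans (Subgroup.card_dvd_of_le (hc a ha ha1)))
  have hPc : ∀ i : ℕ, i.Coprime r₁ → ¬ p ∣ Nat.card (centralizer ({x₀ ^ i} : Set G)) := by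
    intro i hi
    refine hTc _ (T.pow_mem hxT i) ?_
    intro h
    have h1 : r₁ ∣ i := hx ▸ orderOf_dvd_of_pow_eq_one h
    exact (hr₁.coprime_iff_not_dvd.1 hi.symm) h1
  have hQc : ∀ i : ℕ, i.Coprime r₂ → ¬ p ∣ Nat.card (centralizer ({y₀ ^ i} : Set G)) := by
    intro i hi
    refine hyc _ (Q.pow_mem hyQ i) ?_
    intro h
    have h1 : r₂ ∣ i := hy ▸ orderOf_dvd_of_pow_eq_one h
    exact (hr₂.coprime_iff_not_dvd.1 hi.symm) h1
  have hnc : ∀ x ∈ P, ∀ y ∈ Q, x ≠ 1 → y ≠ 1 → ¬ IsConj x y := by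
    intro x hx y hy hx1 hy1 hcon
    have h1 := orderOf_of_mem_prime hr₁ hP hx hx1
    have h2 := orderOf_of_mem_prime hr₂ hQ hy hy1
    have h3 := H653.Sys.orderOf_conj x y hcon
    exact hr12 (by rw [← h1, ← h2, h3])
  have hpr₂ : p ≠ r₂ := by
    rintro rfl
    apply hyc y₀ hyQ hy1
    have h1 : orderOf y₀ ∣ Nat.card (centralizer ({y₀} : Set G)) :=
      Subgroup.orderOf_dvd_natCard _ (mem_centralizer_singleton_iff.2 rfl)
    rwa [hy] at h1
  have h8t : 8 * t = Nat.card Q - 1 := by rw [hQ]; omega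
  have ht0 : 0 < t := by omega
  -- the trivial character
  have hW1 : W (one1 G) = t := hW.one (by norm_num) h8t rfl
  have hc1 : c (one1 G) = 1 := by
    have h1 := hcW (one1 G) (by rw [hW1]; exact_mod_cast ht0.ne') x₀ hxT hx1
    rw [one1_apply] at h1
    exact_mod_cast h1.symm
  -- the Steinberg character
  obtain ⟨st, hstd, hstv, -, huniq, -⟩ := H727.TC.exists_st hp hG
  have hstp : ¬ p ∣ Nat.card G / charDegree (st : G → ℂ) := by
    rw [H143.ChevBlocks.not_dvd_iff st.2, hstd, hp.factorization_pow]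
    simp
  have hpG : p ∣ Nat.card G :=
    H330.Gow.dvd_card (H330.Gow.hasSplit_of_ab (H716.SplitAb.hasSplitAb_of_lie hp hG))
  have hst1 : st ≠ one1 G := by
    rintro h
    rw [h] at hstp
    apply hstp
    have h1 : charDegree ((one1 G : IrrCharacter G) : G → ℂ) = 1 := by
      unfold charDegree
      rw [one1_apply]
      simp
    rw [h1, Nat.div_one]
    exact hpG
  have hstW : W st ≠ 0 := by
    intro h0
    have h1 := hW.dvd st
    rw [h0, mul_zero, add_zero, hQ] at h1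
    have h2 : r₂ ∣ p ^ (Nat.card G).factorization p := by
      rw [← hstd]
      exact_mod_cast h1
    exact hpr₂ ((Nat.prime_dvd_prime_iff_eq hr₂ hp).1 (hr₂.dvd_of_dvd_pow h2)).symm
  have hstc : c st ≠ 0 := by
    intro h0
    have h1 := hcW st hstW x₀ hxT hx1
    rw [h0] at h1
    have h2 := hstv x₀ (H727.TC.reg_of_cent (hTc x₀ hxT hx1))
    rw [Nat.factorization_eq_zero_of_not_dvd (hTc x₀ hxT hx1), pow_zero, h1] at h2
    rcases h2 with h2 | h2 <;> norm_num at h2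
  have hc3 : ∀ χ : IrrCharacter G, c χ ≠ 0 → c χ = 1 ∨ c χ = -1 := by
    intro χ hχ
    obtain ⟨h1, h2⟩ := hone χ (c χ) (hcc χ hχ)
    omega
  -- the middle characters
  have hmidW : ∀ χ : IrrCharacter G, c χ ≠ 0 → W χ ≠ 0 → ∃ s : ℤ, (s = 1 ∨ s = -1) ∧ W χ = s * t := by
    intro χ h1 h2
    rcases hcv χ h1 with h | h | h
    · exact absurd h h2
    · exact ⟨1, Or.inl rfl, by rw [h]; ring⟩
    · exact ⟨-1, Or.inr rfl, by rw [h]; ring⟩
  have habs : ∀ χ : IrrCharacter G, c χ ≠ 0 → W χ ≠ 0 → |c χ * W χ| = t := by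
    intro χ h1 h2
    obtain ⟨s, hs, h3⟩ := hmidW χ h1 h2
    rw [h3]
    rcases hc3 χ h1 with h4 | h4 <;> rcases hs with rfl | rfl <;> rw [h4] <;> simp
  have hcong : ∀ χ : IrrCharacter G, c χ ≠ 0 → ∀ s : ℤ, W χ = s * t →
      (n₁ : ℤ) ∣ (charDegree (χ : G → ℂ) : ℤ) - c χ ∧ (r₂ : ℤ) ∣ (charDegree (χ : G → ℂ) : ℤ) - s := by
    intro χ h1 s h3
    constructor
    · have h4 := H221.TC.deg_mod (A := T) (isIrr_isCharacter χ.2) (c := c χ) (d := (charDegree (χ : G → ℂ) : ℤ)) (hcc χ h1)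
        (by rw [← H686.CharKit.charDegree_irr χ]; simp)
      rwa [hT] at h4
    · have h4 := hW.dvd χ
      rw [hQ, h3] at h4
      have h5 : ((charDegree (χ : G → ℂ) : ℕ) : ℤ) - s = ((deg χ : ℤ) + (8 : ℕ) * (s * t)) - r₂ * s := by
        rw [← ht]
        change (deg χ : ℤ) - s = _
        push_cast
        ring
      rw [h5]
      exact dvd_sub h4 (dvd_mul_right _ _)
  have hone1 : ∀ χ : IrrCharacter G, χ ≠ one1 G → charDegree (χ : G → ℂ) ≠ 1 := by
    intro χ hχ h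
    have hcomm : ¬ (Nat.card G).Prime := by
      intro hpr
      have h1 : p = Nat.card G := (Nat.prime_dvd_prime_iff_eq hp hpr).1 hpG
      have h2 : r₂ ∣ Nat.card G := hQ ▸ Subgroup.card_subgroup_dvd_card Q
      rw [← h1] at h2
      exact hpr₂ ((Nat.prime_dvd_prime_iff_eq hr₂ hp).1 h2).symm
    exact hχ (Subtype.ext (one_of_deg hcomm χ h))
  have hD : ∀ χ : IrrCharacter G, IsMidC p c W χ → D ≤ charDegree (χ : G → ℂ) := by
    rintro χ ⟨h1, h2, h3, h4⟩
    by_contra hlt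
    push Not at hlt
    obtain ⟨s, hs, h5⟩ := hmidW χ h3 h4
    obtain ⟨h6, h7⟩ := hcong χ h3 s h5
    rcases hdeg _ (Blocks.CyclicUpper.charDegree_dvd χ.2) (c χ) s (hc3 χ h3) hs h6 h7 hlt with h8 | ⟨k, hk, h8⟩
    · exact hone1 χ h1 h8
    · have := H727.TC.eq_of_pow hp hG h1 h8
      omega
  have hncard : {χ : IrrCharacter G | IsMidC p c W χ}.ncard ≤ n := by
    rcases hcount with rfl | ⟨rfl, hneg⟩
    · exact ncard_le_ten hstp hst1 (by rw [hc1]; norm_num) hstc hc12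
    · refine ncard_le_two ht0 huniq hstp hst1 (by rw [hc1, hW1, one_mul]) ?_
        (orth_c hr₁.one_lt hP hW (fun χ hχ a ha ha1 => hcW χ hχ a (hPT ha) ha1) hnc) ?_
      · exact (le_abs_self _).trans (habs st hstc hstW).le
      · rintro χ ⟨h1, h2, h3, h4⟩
        obtain ⟨s, hs, h5⟩ := hmidW χ h3 h4
        obtain ⟨h6, h7⟩ := hcong χ h3 s h5
        have hlt : charDegree (χ : G → ℂ) * charDegree (χ : G → ℂ) < Nat.card G := by
          have h8 := SmallSimple.DegreeData.sum_sq (G := G)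
          have h9 : ∑ χ' ∈ ({χ, one1 G} : Finset (IrrCharacter G)), charDegree (χ' : G → ℂ) ^ 2 ≤
              ∑ χ' : IrrCharacter G, charDegree (χ' : G → ℂ) ^ 2 :=
            Finset.sum_le_sum_of_subset_of_nonneg (Finset.subset_univ _) fun χ' _ _ => by positivity
          rw [Finset.sum_pair h1, h8] at h9
          have h10 : charDegree ((one1 G : IrrCharacter G) : G → ℂ) = 1 := by
            unfold charDegree
            rw [one1_apply]
            simp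
          rw [h10, one_pow, pow_two] at h9
          omega
        rcases hneg _ (Blocks.CyclicUpper.charDegree_dvd χ.2) hlt (c χ) s (hc3 χ h3) hs h6 h7 with h8 | h8 | h8
        · exact absurd h8 (hone1 χ h1)
        · rw [h5, ← mul_assoc, h8]; ring
        · exfalso
          have h9 : ¬ p ∣ Nat.card G / charDegree (χ : G → ℂ) := by
            rw [H143.ChevBlocks.not_dvd_iff χ.2]
            exact (hp.pow_dvd_iff_le_factorization (Blocks.Knorr.charDegree_ne_zero χ.2)).1 h8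
          exact h9 h2
  -- the two elements
  refine ⟨x₀, y₀, hx, hy, fun g hg => ?_⟩
  have hxc := hTc x₀ hxT hx1
  have hycc := hyc y₀ hyQ hy1
  by_cases ho : p ∣ orderOf g
  swap
  · obtain ⟨u, v, e⟩ := H330.Gow.gow hp hG hxc hycc hg ho
    exact ⟨u, v, e.symm⟩
  by_cases hi : p ∣ (centralizer ({g} : Set G)).index
  swap
  · refine H727.TC.prd_of_coprime_class hp hG hxc hycc ?_ hg hi
    intro hcon
    have h1 := H653.Sys.orderOf_conj _ _ hcon
    rw [orderOf_inv, hx, hy] at h1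
    exact hr12 h1
  · have h1 := ne_zero_of_card hp hG ht0 (by rw [hc1, hW1, one_mul]) hncard
      (fun χ hχ => habs χ hχ.2.2.1 hχ.2.2.2) hD ho (hcb g ho hi)
    have h2 := avg_sum (r := r₁) hP hW (fun χ hχ a ha ha1 => hcW χ hχ a (hPT ha) ha1) g
    have h3 : (((r₁ - 1 : ℕ) : ℂ) * 8) ≠ 0 := by
      have h4 := hr₁.one_lt
      have : r₁ - 1 ≠ 0 := by omega
      exact mul_ne_zero (by exact_mod_cast this) (by norm_num)
    obtain ⟨x, hxP, hx1', y, hyQ', hy1', hprd⟩ := H938.Pw.Avg.exists_prd_of_ne_zero (H := P) (K := Q) (g := g)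
      (by rw [h2]; exact mul_ne_zero h3 h1)
    have h5 := not_dvd_orderOf hr₁ hr₁G hx hPc ho
    have h6 := not_dvd_orderOf hr₂ hr₂G hy hQc ho
    exact H180.F43.prd_of_order hr₁ hr₂ hr12 hr₁G hr₂G
      (Nat.Coprime.mul_right ((hr₁.coprime_iff_not_dvd.2 h5).symm) ((hr₂.coprime_iff_not_dvd.2 h6).symm))
      (orderOf_of_mem_prime hr₁ hP hxP hx1') (orderOf_of_mem_prime hr₂ hQ hyQ' hy1') hx hy hprd

end Cfsg.Agent.H357.T6.Asm
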