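import Cfsg.Agent.H357.T6.AsmFour
import Cfsg.Agent.H641.TC6.FTor
import Cfsg.Agent.H903.FFour.Hyp
import Cfsg.Agent.H903.FFour.Val
import Cfsg.Agent.H903.FFour.ValTwo
import Cfsg.Agent.H598.F4.NumOdd
import Cfsg.Agent.H520.FC.Gen
import Cfsg.Agent.H210.TC.Ly

/-!
# S2452: the row `F₄(9)` (and `F₄(11)`, `F₄(13)`) (helper357)

`gen` : `x` of prime order `r₁ ∣ q⁴ - q² + 1`, `y` of prime order `r₂ ∣ (q⁴ + 1) / 2`, two middle characters.
-/

set_option autoImplicit false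
set_option linter.unusedSectionVars false

open Cfsg Cfsg.Lie Subgroup

namespace Cfsg.Agent.H357.T6.Nine

open Cfsg.Agent.Characters.Core
open Cfsg.Agent.H598.F4.Num
open Cfsg.Agent.H210.TC
open Cfsg.Agent.H65.Ore
open Cfsg.Agent.H221.TC

variable {K : Type} [Field K] [Fintype K]

theorem gen {p q f r₁ s₁ r₂ s₂ : ℕ} (hp : p.Prime) [CharP K p] (hp2 : p ≠ 2) (hK : Fintype.card K = q) (hq5 : 5 ≤ q)
    (hodd : Odd q) (hf : (Nat.card ↥(chevF4.group K)).factorization p = f)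
    (hr₁ : r₁.Prime) (hr₁T : r₁ ∣ q ^ 4 - q ^ 2 + 1) (hr₁G : ¬ r₁ ^ 2 ∣ ordF q) (hs₁ : 12 * s₁ = r₁ - 1) (hs₁2 : 2 ≤ s₁)
    (hr₂ : r₂.Prime) (hr₂T : r₂ ∣ (q ^ 4 + 1) / 2) (hr₂G : ¬ r₂ ^ 2 ∣ ordF q) (hs₂ : 8 * s₂ = r₂ - 1) (hs₂2 : 2 ≤ s₂)
    (hb₁ : 205 < q ^ 4 - q ^ 2 + 1) (hb₂ : 105 < (q ^ 4 + 1) / 2) (h2 : q ^ 4 + 1 = 2 * ((q ^ 4 + 1) / 2))
    (hcop : (q ^ 4 - q ^ 2 + 1).Coprime (q ^ 4 + 1)) (hpT : ¬ p ∣ q ^ 4 - q ^ 2 + 1) (hpS : ¬ p ∣ q ^ 4 + 1)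
    (hc2 : Nat.Coprime 2 ((q ^ 4 + 1) / 2))
    (hnum : ∀ d : ℕ, d ∣ ordF q → d * d < ordF q → ∀ a b : ℤ, (a = 1 ∨ a = -1) → (b = 1 ∨ b = -1) →
      ((q ^ 4 - q ^ 2 + 1 : ℕ) : ℤ) ∣ (d : ℤ) - a → (((q ^ 4 + 1) / 2 : ℕ) : ℤ) ∣ (d : ℤ) - b →
      d = 1 ∨ (∃ j < f, d = p ^ j) ∨ (a * b = -1 ∧ D2 q ≤ d) ∨ p ^ f ∣ d)
    (hD : D2 q = H520.FC.d2 q) (h6 : r₁.Coprime 6) (h6' : r₂.Coprime 6) : Row3 ↥(chevF4.group K) := by
  have : Fact p.Prime := ⟨hp⟩
  have hsimp := H903.FFour.simple (K := K)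
  have hcard : Nat.card ↥(chevF4.group K) = ordF q := H903.FFour.card_ordF hK
  have hK' : Nat.card K = q := by rw [Nat.card_eq_fintype_card, hK]
  have hlie := H903.FFour.lie K p
  obtain ⟨T, -, -, hT, hab, hc, -, hw, -⟩ := H641.TC6.tor12_F4 (F := K) hK (by omega)
  obtain ⟨A, S, hD8, hAS, -, hS, hA, hab', hc', -, -, hv, hcom, -⟩ := H641.TC6.tor8_F4 (F := K) hK hodd (by omega)
  have hr₁G' : ¬ r₁ ^ 2 ∣ Nat.card ↥(chevF4.group K) := by rw [hcard]; exact hr₁G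
  have hr₂G' : ¬ r₂ ^ 2 ∣ Nat.card ↥(chevF4.group K) := by rw [hcard]; exact hr₂G
  have hTor : Tor T T 1 := tor_one hab fun a ha ha1 => (hc a ha ha1).le
  have hTor' : Tor A S 2 := by
    refine ⟨hab', hAS, fun a ha ha1 => (hc' a ha ha1).le, fun t ht => ?_, by rw [hA]; exact hc2⟩
    refine hD8.mem (S.pow_mem ht 2) ?_
    apply orderOf_dvd_of_pow_eq_one
    rw [← pow_mul, ← h2, ← hS]
    exact orderOf_dvd_iff_pow_eq_one.1 (Subgroup.orderOf_dvd_natCard S ht)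
  have hone := H903.FFour.val_of_rel hab (fun a ha ha1 => (hc a ha ha1).le) hr₁ (by rw [hT]; exact hr₁T) hr₁G' hw hs₁ hs₁2
  have hone' := H903.FFour.val_two hAS hab' (fun a ha ha1 => (hc' a ha ha1).le)
    (fun n hn a ha => hcom n hn a (le_normalizer ha)) hr₂ (by rw [hA]; exact hr₂T) hr₂G' hv hs₂ hs₂2
  have hmain := fun (x y : ↥(chevF4.group K)) (hx : x ∈ T) (hx1 : x ≠ 1) (hy : y ∈ A) (hy1 : y ≠ 1) =>
    H357.T6.Asm.asm_val (D := D2 q) hp hlie hTor hTor' hw hv (by rw [one_mul]) (by rw [hS, hA]; exact h2)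
      (by rw [hT]; omega) (by rw [hT]; omega) (by rw [hA]; omega) (by rw [hA]; omega)
      (by rw [hT, hS]; exact hcop) (by rw [hT]; exact hpT) (by rw [hS]; exact hpS) hone hone'
      (fun d hd hdd a b ha hb h1 h2 => by
        rw [hf]
        rw [hcard] at hd hdd
        rw [hT] at h1
        rw [hA] at h2
        exact hnum d hd hdd a b ha hb h1 h2)
      (fun g hg hi => by
        have h1 := H520.FC.hcbg (K := K) hp2 (by rw [hK']; exact hq5) g hg hi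
        rw [hK', ← hD] at h1
        omega) hx hx1 hy hy1
  -- the elements
  obtain ⟨x', hx'⟩ := @exists_prime_orderOf_dvd_card' ↥T _ _ r₁ ⟨hr₁⟩ (by rw [hT]; exact hr₁T)
  obtain ⟨y', hy'⟩ := @exists_prime_orderOf_dvd_card' ↥A _ _ r₂ ⟨hr₂⟩ (by rw [hA]; exact hr₂T)
  have hx : orderOf (x' : ↥(chevF4.group K)) = r₁ := by rw [orderOf_coe, hx']
  have hy : orderOf (y' : ↥(chevF4.group K)) = r₂ := by rw [orderOf_coe, hy']
  have hx1 : (x' : ↥(chevF4.group K)) ≠ 1 := by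
    intro h
    rw [h, orderOf_one] at hx
    exact hr₁.one_lt.ne hx
  have hy1 : (y' : ↥(chevF4.group K)) ≠ 1 := by
    intro h
    rw [h, orderOf_one] at hy
    exact hr₂.one_lt.ne hy
  have hcx : ¬ p ∣ Nat.card (centralizer ({(x' : ↥(chevF4.group K))} : Set ↥(chevF4.group K))) := by
    rw [hc _ x'.2 hx1, hT]
    exact hpT
  have hpr₁ : ¬ p ∣ r₁ := fun h => hpT (h.trans hr₁T)
  have hpr₂ : ¬ p ∣ r₂ := fun h => hpS (h.trans (hr₂T.trans ⟨2, by rw [mul_comm]; exact h2⟩))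
  refine Row3.of_pair (x := x') (y := y') (by rw [hx]; exact hr₁) (by rw [hx]; exact h6) (by rw [hy]; exact hr₂)
    (by rw [hy]; exact h6') (fun g hg => ?_) ?_ ?_
  · obtain ⟨u, v, e⟩ := hmain x' y' x'.2 hx1 y'.2 hy1 g hg
    exact ⟨u, v, e⟩
  · obtain ⟨u, v, e⟩ := H330.Gow.gow hp hlie hcx hcx hy1 (by rw [hy]; exact hpr₂)
    exact ⟨u, v, e.symm⟩
  · obtain ⟨u, v, e⟩ := H330.Gow.gow hp hlie hcx hcx (inv_ne_one.2 hx1) (by rw [orderOf_inv, hx]; exact hpr₁)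
    exact ⟨u, v, e.symm⟩

/-- the exponent of the characteristic in the order -/
theorem fact_gen {p e q : ℕ} (hp : p.Prime) (he : 0 < e) (hq : q = p ^ e) (hK : Fintype.card K = q) :
    (Nat.card ↥(chevF4.group K)).factorization p = e * 24 := by
  have key : ∀ k : ℕ, 0 < k → ¬ p ∣ q ^ k - 1 := by
    intro k hk h
    have hq0 : 0 < q := by rw [hq]; exact pow_pos hp.pos _
    have h3 : p ∣ q ^ k := by
      rw [hq]
      exact dvd_pow (dvd_pow_self p he.ne') hk.ne'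
    have h4 : 1 ≤ q ^ k := Nat.one_le_pow _ _ hq0
    have h5 : p ∣ q ^ k - (q ^ k - 1) := Nat.dvd_sub h3 h
    have h6 : q ^ k - (q ^ k - 1) = 1 := by omega
    rw [h6] at h5
    exact hp.one_lt.ne' (Nat.dvd_one.1 h5)
  have hM : ¬ p ∣ (q ^ 2 - 1) * (q ^ 6 - 1) * (q ^ 8 - 1) * (q ^ 12 - 1) := by
    intro h
    rcases hp.dvd_mul.1 h with h | h
    · rcases hp.dvd_mul.1 h with h | h
      · rcases hp.dvd_mul.1 h with h | h
        · exact key 2 (by norm_num) h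
        · exact key 6 (by norm_num) h
      · exact key 8 (by norm_num) h
    · exact key 12 (by norm_num) h
  have hM0 : (q ^ 2 - 1) * (q ^ 6 - 1) * (q ^ 8 - 1) * (q ^ 12 - 1) ≠ 0 := fun h => hM (h ▸ dvd_zero p)
  have h1 : Nat.card ↥(chevF4.group K) = p ^ (e * 24) * ((q ^ 2 - 1) * (q ^ 6 - 1) * (q ^ 8 - 1) * (q ^ 12 - 1)) := by
    rw [S1062.result hK, pow_mul, ← hq]; ring
  rw [h1, Nat.factorization_mul (pow_ne_zero _ hp.ne_zero) hM0, Finsupp.add_apply, hp.factorization_pow,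
    Finsupp.single_eq_same, Nat.factorization_eq_zero_of_not_dvd hM, add_zero]

theorem hnum {q : ℕ} (hq : q = 9 ∨ q = 11 ∨ q = 13) {p e : ℕ} (he : q = p ^ e) (he0 : 0 < e) (d : ℕ) (hd : d ∣ ordF q)
    (hdd : d * d < ordF q) (a b : ℤ) (ha : a = 1 ∨ a = -1) (hb : b = 1 ∨ b = -1)
    (h1 : ((q ^ 4 - q ^ 2 + 1 : ℕ) : ℤ) ∣ (d : ℤ) - a) (h2 : (((q ^ 4 + 1) / 2 : ℕ) : ℤ) ∣ (d : ℤ) - b) :
    d = 1 ∨ (∃ j < e * 24, d = p ^ j) ∨ (a * b = -1 ∧ D2 q ≤ d) ∨ p ^ (e * 24) ∣ d := by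
  rcases num_full_odd hq hd ha hb h1 h2 hdd.le with h | h | h | h
  · exact Or.inl h.1
  · exact Or.inr (Or.inl ⟨e * 12, by omega, by rw [h, he, ← pow_mul]⟩)
  · exact Or.inr (Or.inr (Or.inl h))
  · exact Or.inr (Or.inr (Or.inr (by rw [h.1, he, ← pow_mul])))

/-- **The row `F₄(9)`.** -/
theorem row9 (hK : Fintype.card K = 9) : Row3 ↥(chevF4.group K) := by
  have hp3 : Nat.Prime 3 := by norm_num
  have : Fact (Nat.Prime 3) := ⟨hp3⟩
  have hch : CharP K 3 := by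
    have h1 : Fintype.card K = 3 ^ 2 := by rw [hK]; norm_num
    exact charP_of_card_eq_prime_pow h1
  exact gen (p := 3) (q := 9) (f := 2 * 24) (r₁ := 6481) (s₁ := 540) (r₂ := 193) (s₂ := 24) hp3 (by norm_num) hK
    (by norm_num) (by decide) (fact_gen hp3 (by norm_num) (by norm_num) hK) (by norm_num) (by norm_num)
    (by decide +kernel) (by norm_num) (by norm_num) (by norm_num) (by norm_num) (by decide +kernel) (by norm_num)
    (by norm_num) (by norm_num) (by norm_num) (by norm_num) (by decide +kernel) (by norm_num) (by norm_num)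
    (by norm_num) (fun d hd hdd a b ha hb h1 h2 => hnum (Or.inl rfl) (by norm_num) (by norm_num) d hd hdd a b ha hb h1 h2)
    (by decide +kernel) (by norm_num) (by norm_num)

/-- **The row `F₄(11)`.** -/
theorem row11 (hK : Fintype.card K = 11) : Row3 ↥(chevF4.group K) := by
  have hp : Nat.Prime 11 := by norm_num
  have : Fact (Nat.Prime 11) := ⟨hp⟩
  have hch : CharP K 11 := charP_of_card_eq_prime hK
  exact gen (p := 11) (q := 11) (f := 1 * 24) (r₁ := 1117) (s₁ := 93) (r₂ := 7321) (s₂ := 915) hp (by norm_num) hK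
    (by norm_num) (by decide) (fact_gen hp (by norm_num) (by norm_num) hK) (by norm_num) (by norm_num)
    (by decide +kernel) (by norm_num) (by norm_num) (by norm_num) (by norm_num) (by decide +kernel) (by norm_num)
    (by norm_num) (by norm_num) (by norm_num) (by norm_num) (by decide +kernel) (by norm_num) (by norm_num)
    (by norm_num) (fun d hd hdd a b ha hb h1 h2 => hnum (Or.inr (Or.inl rfl)) (by norm_num) (by norm_num) d hd hdd a b
      ha hb h1 h2)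
    (by decide +kernel) (by norm_num) (by norm_num)

/-- **The row `F₄(13)`.** -/
theorem row13 (hK : Fintype.card K = 13) : Row3 ↥(chevF4.group K) := by
  have hp : Nat.Prime 13 := by norm_num
  have : Fact (Nat.Prime 13) := ⟨hp⟩
  have hch : CharP K 13 := charP_of_card_eq_prime hK
  exact gen (p := 13) (q := 13) (f := 1 * 24) (r₁ := 28393) (s₁ := 2366) (r₂ := 14281) (s₂ := 1785) hp (by norm_num) hK
    (by norm_num) (by decide) (fact_gen hp (by norm_num) (by norm_num) hK) (by norm_num) (by norm_num)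
    (by decide +kernel) (by norm_num) (by norm_num) (by norm_num) (by norm_num) (by decide +kernel) (by norm_num)
    (by norm_num) (by norm_num) (by norm_num) (by norm_num) (by decide +kernel) (by norm_num) (by norm_num)
    (by norm_num) (fun d hd hdd a b ha hb h1 h2 => hnum (Or.inr (Or.inr rfl)) (by norm_num) (by norm_num) d hd hdd a b
      ha hb h1 h2)
    (by decide +kernel) (by norm_num) (by norm_num)

end Cfsg.Agent.H357.T6.Nine
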