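import Cfsg.Agent.H118.O8S.Mac

/-!
# `SL₂` of a finite field: products with prescribed traces (helper357, S2464)

* `exists_pair` : every nonscalar `X ∈ SL₂(K)` is `A * B` with `tr A = a`, `tr B = b`, if `a² ≠ b²`;
* `pair_of_trace` : hence a product of a conjugate of `x` and a conjugate of `y`, if moreover `(tr x)² ≠ 4 ≠ (tr y)²`.
-/

set_option autoImplicit false

namespace Cfsg.Agent.H357.T6

open Matrix
open scoped MatrixGroups

universe u

variable {F : Type u} [Field F] [Finite F]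

/-- the equation -/
theorem exists_sol (t a b : F) (hab : a ^ 2 ≠ b ^ 2) : ∃ x y : F, x ^ 2 - t * x * y + y ^ 2 - a * x + b * y + 1 = 0 := by
  have := Fintype.ofFinite F
  by_cases h4 : t ^ 2 = 4
  · obtain ⟨e, he, ht⟩ : ∃ e : F, e ^ 2 = 1 ∧ t = 2 * e := by
      by_cases h2 : (2 : F) = 0
      · refine ⟨1, one_pow 2, ?_⟩
        have h5 : (4 : F) = 0 := by
          have : (4 : F) = 2 * 2 := by norm_num
          rw [this, h2, zero_mul]
        rw [h5] at h4
        rw [h2, zero_mul]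
        exact pow_eq_zero_iff (two_ne_zero) |>.1 h4
      · refine ⟨t / 2, ?_, ?_⟩
        · field_simp
          rw [h4]
          norm_num
        · field_simp
    subst ht
    have hne : b - e * a ≠ 0 := by
      intro h
      apply hab
      have : b = e * a := sub_eq_zero.1 h
      rw [this, mul_pow, he, one_mul]
    refine ⟨e * (-1 / (b - e * a)), -1 / (b - e * a), ?_⟩
    set w : F := -1 / (b - e * a) with hw
    have h1 : (b - e * a) * w = -1 := by rw [hw]; field_simp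
    linear_combination (-(w ^ 2)) * he + h1
  · obtain ⟨X, Y, hXY⟩ := Cfsg.Agent.H118.O8S.exists_value (F := F) (-t)
      (-(((2 * a - t * b) / (4 - t ^ 2)) ^ 2 - t * ((2 * a - t * b) / (4 - t ^ 2)) * ((t * a - 2 * b) / (4 - t ^ 2)) +
        ((t * a - 2 * b) / (4 - t ^ 2)) ^ 2 - a * ((2 * a - t * b) / (4 - t ^ 2)) +
        b * ((t * a - 2 * b) / (4 - t ^ 2)) + 1)) (by rwa [neg_sq])
    have hD : (4 - t ^ 2 : F) ≠ 0 := sub_ne_zero.2 (Ne.symm h4)
    set u : F := (2 * a - t * b) / (4 - t ^ 2) with hu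
    set v : F := (t * a - 2 * b) / (4 - t ^ 2) with hv
    have h1 : 2 * u - t * v = a := by
      rw [hu, hv]
      field_simp
      ring
    have h2 : 2 * v - t * u = -b := by
      rw [hu, hv]
      field_simp
      ring
    refine ⟨X + u, Y + v, ?_⟩
    linear_combination hXY + X * h1 + Y * h2

/-- the companion form -/
theorem exists_comp (X : SL(2, F)) (hX : ∀ c : F, (X : Matrix (Fin 2) (Fin 2) F) ≠ c • (1 : Matrix (Fin 2) (Fin 2) F)) :
    ∃ P : Matrix (Fin 2) (Fin 2) F, P.det ≠ 0 ∧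
      (X : Matrix (Fin 2) (Fin 2) F) * P = P * !![0, -1; 1, (X : Matrix (Fin 2) (Fin 2) F) 0 0 + X.1 1 1] := by
  have hdet : X.1 0 0 * X.1 1 1 - X.1 0 1 * X.1 1 0 = 1 := by
    have := X.2
    rwa [det_fin_two] at this
  have key : ∀ v0 v1 : F, (!![v0, X.1 0 0 * v0 + X.1 0 1 * v1; v1, X.1 1 0 * v0 + X.1 1 1 * v1] :
      Matrix (Fin 2) (Fin 2) F).det ≠ 0 → ∃ P : Matrix (Fin 2) (Fin 2) F, P.det ≠ 0 ∧
      (X : Matrix (Fin 2) (Fin 2) F) * P = P * !![0, -1; 1, (X : Matrix (Fin 2) (Fin 2) F) 0 0 + X.1 1 1] := by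
    intro v0 v1 hP
    refine ⟨_, hP, ?_⟩
    ext i j
    fin_cases i <;> fin_cases j
    · simp [Matrix.mul_apply, Fin.sum_univ_two]
    · simp [Matrix.mul_apply, Fin.sum_univ_two]
      linear_combination (-v0) * hdet
    · simp [Matrix.mul_apply, Fin.sum_univ_two]
    · simp [Matrix.mul_apply, Fin.sum_univ_two]
      linear_combination (-v1) * hdet
  by_cases h10 : X.1 1 0 = 0
  · by_cases h01 : X.1 0 1 = 0
    · apply key 1 1
      rw [det_fin_two_of, h10, h01]
      intro h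
      apply hX (X.1 0 0)
      have h3 : X.1 0 0 = X.1 1 1 := by linear_combination -h
      ext i j
      fin_cases i <;> fin_cases j
      · simp
      · simpa using h01
      · simpa using h10
      · simpa using h3.symm
    · apply key 0 1
      rw [det_fin_two_of]
      simpa using h01
  · apply key 1 0
    rw [det_fin_two_of]
    simpa using h10

/-- **prescribed traces** -/
theorem exists_pair (X : SL(2, F)) (hX : ∀ c : F, (X : Matrix (Fin 2) (Fin 2) F) ≠ c • (1 : Matrix (Fin 2) (Fin 2) F))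
    (a b : F) (hab : a ^ 2 ≠ b ^ 2) : ∃ A B : SL(2, F), X = A * B ∧ A.1 0 0 + A.1 1 1 = a ∧ B.1 0 0 + B.1 1 1 = b := by
  obtain ⟨P, hP, hXP⟩ := exists_comp X hX
  set t : F := (X : Matrix (Fin 2) (Fin 2) F) 0 0 + X.1 1 1 with ht
  obtain ⟨x, y, hxy⟩ := exists_sol t a b hab
  have hu : IsUnit P.det := isUnit_iff_ne_zero.2 hP
  have hA : (!![x, y; b + y - t * x, a - x] : Matrix (Fin 2) (Fin 2) F).det = 1 := by
    rw [det_fin_two_of]
    linear_combination -hxy
  have hB : (!![-y, -(a - x) - y * t; x, b + y] : Matrix (Fin 2) (Fin 2) F).det = 1 := by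
    rw [det_fin_two_of]
    linear_combination -hxy
  have hAB : (!![x, y; b + y - t * x, a - x] : Matrix (Fin 2) (Fin 2) F) * !![-y, -(a - x) - y * t; x, b + y] =
      !![0, -1; 1, t] := by
    ext i j
    fin_cases i <;> fin_cases j
    · simp [Matrix.mul_apply, Fin.sum_univ_two]
      ring
    · simp [Matrix.mul_apply, Fin.sum_univ_two]
      linear_combination hxy
    · simp [Matrix.mul_apply, Fin.sum_univ_two]
      linear_combination -hxy
    · simp [Matrix.mul_apply, Fin.sum_univ_two]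
      linear_combination (-t) * hxy
  have hc : ∀ M : Matrix (Fin 2) (Fin 2) F, (P * M * P⁻¹).det = M.det := by
    intro M
    rw [det_mul, det_mul, mul_comm P.det, mul_assoc, ← det_mul, mul_nonsing_inv P hu, det_one, mul_one]
  have htr : ∀ M : Matrix (Fin 2) (Fin 2) F, (P * M * P⁻¹).trace = M.trace := by
    intro M
    rw [trace_mul_comm, ← mul_assoc, nonsing_inv_mul P hu, one_mul]
  refine ⟨⟨P * !![x, y; b + y - t * x, a - x] * P⁻¹, by rw [hc, hA]⟩,
    ⟨P * !![-y, -(a - x) - y * t; x, b + y] * P⁻¹, by rw [hc, hB]⟩, ?_, ?_, ?_⟩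
  · apply Subtype.ext
    show (X : Matrix (Fin 2) (Fin 2) F) = P * !![x, y; b + y - t * x, a - x] * P⁻¹ *
      (P * !![-y, -(a - x) - y * t; x, b + y] * P⁻¹)
    have h1 : P * !![x, y; b + y - t * x, a - x] * P⁻¹ * (P * !![-y, -(a - x) - y * t; x, b + y] * P⁻¹) =
        P * (!![x, y; b + y - t * x, a - x] * (P⁻¹ * P) * !![-y, -(a - x) - y * t; x, b + y]) * P⁻¹ := by
      simp only [mul_assoc]
    rw [h1, nonsing_inv_mul P hu, mul_one, hAB, ← hXP, mul_assoc, mul_nonsing_inv P hu, mul_one]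
  · have h1 := htr !![x, y; b + y - t * x, a - x]
    rw [trace_fin_two, trace_fin_two_of] at h1
    show (P * !![x, y; b + y - t * x, a - x] * P⁻¹) 0 0 + (P * !![x, y; b + y - t * x, a - x] * P⁻¹) 1 1 = a
    rw [h1]
    ring
  · have h1 := htr !![-y, -(a - x) - y * t; x, b + y]
    rw [trace_fin_two, trace_fin_two_of] at h1
    show (P * !![-y, -(a - x) - y * t; x, b + y] * P⁻¹) 0 0 + (P * !![-y, -(a - x) - y * t; x, b + y] * P⁻¹) 1 1 = b
    rw [h1]
    ring

/-- conjugacy by the trace -/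
theorem conj_of_trace {g h : SL(2, F)} (ht : (g.1 0 0 + g.1 1 1) ^ 2 ≠ 4)
    (hgh : g.1 0 0 + g.1 1 1 = h.1 0 0 + h.1 1 1) : ∃ a : SL(2, F), g = a * h * a⁻¹ := by
  have := Fintype.ofFinite F
  obtain ⟨c, hc⟩ := isConj_iff.1 (Cfsg.Agent.H118.O8S.exists_conj h g (by
    show (h.1 0 0 + h.1 1 1) ^ 2 ≠ 4
    rwa [← hgh]) hgh.symm)
  exact ⟨c, hc.symm⟩

/-- **products of two classes** -/
theorem pair_of_trace {x y : SL(2, F)} (hx : (x.1 0 0 + x.1 1 1) ^ 2 ≠ 4) (hy : (y.1 0 0 + y.1 1 1) ^ 2 ≠ 4)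
    (hxy : (x.1 0 0 + x.1 1 1) ^ 2 ≠ (y.1 0 0 + y.1 1 1) ^ 2) (A : SL(2, F))
    (hA : ∀ c : F, (A : Matrix (Fin 2) (Fin 2) F) ≠ c • (1 : Matrix (Fin 2) (Fin 2) F)) :
    ∃ a b : SL(2, F), A = (a * x * a⁻¹) * (b * y * b⁻¹) := by
  obtain ⟨X, Y, h, h1, h2⟩ := exists_pair A hA _ _ hxy
  obtain ⟨a, ha⟩ := conj_of_trace (g := X) (h := x) (by rwa [h1]) h1
  obtain ⟨b, hb⟩ := conj_of_trace (g := Y) (h := y) (by rwa [h2]) h2
  exact ⟨a, b, by rw [h, ha, hb]⟩

end Cfsg.Agent.H357.T6
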