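import Cfsg.Agent.H357.T6.SlPair
import Cfsg.Agent.H194.Ore.Diag
import Cfsg.Agent.H962.TC.Num
import Cfsg.Agent.FixBN.FieldRGD
import Cfsg.Agent.ClassicalGeometry.MinIndexPSL2

/-!
# `SL₂(q)`, `q ∉ {2, 3, 5, 7, 17}`: two classes of prime order `≥ 5` (helper357, S2464)

* `sl_two` : elements `x`, `y` of prime order `s ≥ 5`, `s ∣ q² - 1`, every nonscalar `A` is a product of conjugates;
* `exists_dd` : diagonalisation over a finite extension.
-/

set_option autoImplicit false

namespace Cfsg.Agent.H357.T6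

open Matrix Polynomial
open scoped MatrixGroups

universe u

section

variable {K : Type u} [Field K]

/-- the Cayley-Hamilton relation -/
theorem sq_eq (x : SL(2, K)) : (x : Matrix (Fin 2) (Fin 2) K) * x =
    (x.1 0 0 + x.1 1 1) • (x : Matrix (Fin 2) (Fin 2) K) - 1 := by
  have hdet : x.1 0 0 * x.1 1 1 - x.1 0 1 * x.1 1 0 = 1 := by
    have := x.2
    rwa [det_fin_two] at this
  ext i j
  fin_cases i <;> fin_cases j
  · simp [Matrix.mul_apply, Fin.sum_univ_two]
    linear_combination -hdet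
  · simp [Matrix.mul_apply, Fin.sum_univ_two]
    ring
  · simp [Matrix.mul_apply, Fin.sum_univ_two]
    ring
  · simp [Matrix.mul_apply, Fin.sum_univ_two]
    linear_combination -hdet

theorem tr_sq (x : SL(2, K)) : (x * x).1 0 0 + (x * x).1 1 1 = (x.1 0 0 + x.1 1 1) ^ 2 - 2 := by
  have h := sq_eq x
  have h0 := congrFun (congrFun h 0) 0
  have h1 := congrFun (congrFun h 1) 1
  simp only [Matrix.sub_apply, Matrix.smul_apply, Matrix.one_apply_eq, smul_eq_mul] at h0 h1
  show ((x : Matrix (Fin 2) (Fin 2) K) * x) 0 0 + ((x : Matrix (Fin 2) (Fin 2) K) * x) 1 1 = _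
  rw [h0, h1]
  ring

/-- a nilpotent perturbation -/
theorem one_add_pow {n : Matrix (Fin 2) (Fin 2) K} (hn : n * n = 0) (k : ℕ) : (1 + n) ^ k = 1 + (k : K) • n := by
  induction k with
  | zero => simp
  | succ k ih =>
    rw [pow_succ, ih, Nat.cast_succ, add_smul, one_smul]
    rw [add_mul, one_mul, mul_add, mul_one, smul_mul_assoc, hn, smul_zero, add_zero]
    abel

theorem coe_pow' (x : SL(2, K)) (k : ℕ) : ((x ^ k : SL(2, K)) : Matrix (Fin 2) (Fin 2) K) =
    (x : Matrix (Fin 2) (Fin 2) K) ^ k := Matrix.SpecialLinearGroup.coe_pow x k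

/-- elements of prime order `≥ 3` different from the characteristic have trace `≠ ± 2` -/
theorem trace_ne {s : ℕ} (hs : s.Prime) (h3 : 3 ≤ s) (hsK : (s : K) ≠ 0) {x : SL(2, K)} (hx : orderOf x = s) :
    (x.1 0 0 + x.1 1 1) ^ 2 ≠ 4 := by
  intro h
  obtain ⟨e, he, ht⟩ : ∃ e : K, e ^ 2 = 1 ∧ x.1 0 0 + x.1 1 1 = 2 * e := by
    by_cases h2 : (2 : K) = 0
    · refine ⟨1, one_pow 2, ?_⟩
      have h5 : (4 : K) = 0 := by
        have : (4 : K) = 2 * 2 := by norm_num
        rw [this, h2, zero_mul]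
      rw [h5] at h
      rw [h2, zero_mul]
      exact pow_eq_zero_iff (two_ne_zero) |>.1 h
    · refine ⟨(x.1 0 0 + x.1 1 1) / 2, ?_, ?_⟩
      · rw [div_pow, h]
        rw [div_eq_one_iff_eq (pow_ne_zero 2 h2)]
        norm_num
      · field_simp
  have h1 := sq_eq x
  rw [ht] at h1
  set n : Matrix (Fin 2) (Fin 2) K := e • (x : Matrix (Fin 2) (Fin 2) K) - 1 with hn
  have hnn : n * n = 0 := by
    rw [hn, sub_mul, one_mul, mul_sub, mul_one, smul_mul_smul_comm, h1, smul_sub, smul_smul]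
    have h2 : e * e = 1 := by rw [← pow_two, he]
    rw [h2, one_mul, one_smul]
    have h4 : (2 * e) • (x : Matrix (Fin 2) (Fin 2) K) = e • (x : Matrix (Fin 2) (Fin 2) K) + e • (x : Matrix (Fin 2) (Fin 2) K) := by
      rw [← add_smul]
      congr 1
      ring
    rw [h4]
    abel
  have hx1 : e • (x : Matrix (Fin 2) (Fin 2) K) = 1 + n := by rw [hn]; abel
  have h5 : (e • (x : Matrix (Fin 2) (Fin 2) K)) ^ s = 1 + (s : K) • n := by rw [hx1, one_add_pow hnn]
  have h6 : (x : Matrix (Fin 2) (Fin 2) K) ^ s = 1 := by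
    rw [← coe_pow', ← hx, pow_orderOf_eq_one]
    rfl
  rw [_root_.smul_pow, h6] at h5
  -- `n` is a scalar
  have h7 : n = ((s : K)⁻¹ * (e ^ s - 1)) • (1 : Matrix (Fin 2) (Fin 2) K) := by
    have h8 : (s : K) • n = (e ^ s - 1) • (1 : Matrix (Fin 2) (Fin 2) K) := by
      rw [sub_smul, one_smul, h5]
      abel
    rw [mul_smul, ← h8, smul_smul, inv_mul_cancel₀ hsK, one_smul]
  have h9 : n = 0 := by
    have h10 := hnn
    rw [h7, smul_mul_smul_comm, mul_one] at h10
    have h11 := congrFun (congrFun h10 0) 0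
    rw [Matrix.smul_apply, Matrix.one_apply_eq, smul_eq_mul, mul_one, Matrix.zero_apply] at h11
    rw [h7, mul_self_eq_zero.1 h11, zero_smul]
  rw [h9, add_zero] at hx1
  -- then `x ^ 2 = 1`
  have h12 : x ^ 2 = 1 := by
    apply Subtype.ext
    show ((x ^ 2 : SL(2, K)) : Matrix (Fin 2) (Fin 2) K) = 1
    rw [coe_pow']
    have h13 : (e • (x : Matrix (Fin 2) (Fin 2) K)) ^ 2 = 1 := by rw [hx1, one_pow]
    rwa [_root_.smul_pow, he, one_smul] at h13
  have h14 := orderOf_dvd_of_pow_eq_one h12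
  rw [hx] at h14
  have := Nat.le_of_dvd (by norm_num) h14
  omega

/-- elements of prime order `≥ 5`: the traces of `x`, `x²` -/
theorem trace_sq_ne {s : ℕ} (hs : s.Prime) (h5 : 5 ≤ s) (hsK : (s : K) ≠ 0) {x : SL(2, K)} (hx : orderOf x = s) :
    (x.1 0 0 + x.1 1 1) ^ 2 ≠ ((x * x).1 0 0 + (x * x).1 1 1) ^ 2 := by
  intro h
  have h4 := trace_ne hs (by omega) hsK hx
  rw [tr_sq] at h
  set t : K := x.1 0 0 + x.1 1 1 with ht
  have h2 := sq_eq x
  rw [← ht] at h2
  have key : (t - 1) * (t + 1) = 0 ∨ t ^ 2 = 4 := by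
    have h6 : ((t - 1) * (t + 1)) * (t ^ 2 - 4) = 0 := by linear_combination -h
    rcases mul_eq_zero.1 h6 with h7 | h7
    · exact .inl h7
    · exact .inr (by linear_combination h7)
  rcases key with h6 | h6
  · have h7 : ((x ^ 6 : SL(2, K)) : Matrix (Fin 2) (Fin 2) K) = 1 := by
      rw [coe_pow']
      have h8 : ∀ e : K, e ^ 2 = 1 → t = e → (x : Matrix (Fin 2) (Fin 2) K) ^ 6 = 1 := by
        intro e he hte
        rw [hte] at h2
        have h9 : (x : Matrix (Fin 2) (Fin 2) K) ^ 3 = (-e) • (1 : Matrix (Fin 2) (Fin 2) K) := by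
          rw [pow_succ, pow_two, h2, sub_mul, one_mul, smul_mul_assoc, h2, smul_sub, smul_smul, ← pow_two, he, one_smul,
            neg_smul]
          abel
        have h10 : (x : Matrix (Fin 2) (Fin 2) K) ^ 6 = ((x : Matrix (Fin 2) (Fin 2) K) ^ 3) * ((x : Matrix (Fin 2) (Fin 2) K) ^ 3) := by
          rw [← pow_add]
        rw [h10, h9, smul_mul_smul_comm, mul_one, neg_mul_neg, ← pow_two, he, one_smul]
      rcases mul_eq_zero.1 h6 with h9 | h9
      · exact h8 1 (one_pow 2) (by linear_combination h9)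
      · exact h8 (-1) (by norm_num) (by linear_combination h9)
    have h8 : x ^ 6 = 1 := Subtype.ext h7
    have h9 := orderOf_dvd_of_pow_eq_one h8
    rw [hx] at h9
    have h10 : s ∣ 2 * 3 := h9
    rcases hs.dvd_mul.1 h10 with h11 | h11
    · have := Nat.le_of_dvd (by norm_num) h11
      omega
    · have := Nat.le_of_dvd (by norm_num) h11
      omega
  · exact h4 h6

/-- **two classes of `SL₂(q)`** -/
theorem sl_two [Finite K] (h4 : 4 ≤ Nat.card K) (h5 : Nat.card K ≠ 5) (h7 : Nat.card K ≠ 7) (h17 : Nat.card K ≠ 17) :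
    ∃ (s : ℕ) (x y : Matrix.SpecialLinearGroup (Fin 2) K), s.Prime ∧ 5 ≤ s ∧ s ∣ Nat.card K ^ 2 - 1 ∧ orderOf x = s ∧
      orderOf y = s ∧ ∀ A : Matrix.SpecialLinearGroup (Fin 2) K,
        (∀ c : K, (A : Matrix (Fin 2) (Fin 2) K) ≠ c • (1 : Matrix (Fin 2) (Fin 2) K)) →
        ∃ a b : Matrix.SpecialLinearGroup (Fin 2) K, A = (a * x * a⁻¹) * (b * y * b⁻¹) := by
  classical
  have := Fintype.ofFinite K
  obtain ⟨s, hs, hs5, hd⟩ := Cfsg.Agent.H962.TC.exists_prime_sq h4 h5 h7 h17
  have hc : s ∣ Nat.card (Matrix.SpecialLinearGroup (Fin 2) K) := by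
    rw [Cfsg.Agent.ClassicalGeometry.MinIndexPSL2.card_sl2]
    exact Dvd.dvd.mul_left hd _
  have hsF : Fact s.Prime := ⟨hs⟩
  obtain ⟨x, hx⟩ := exists_prime_orderOf_dvd_card' s hc
  have hsK : (s : K) ≠ 0 := by
    intro h
    obtain ⟨p, hp⟩ := CharP.exists K
    have hpp : Fact p.Prime := ⟨(CharP.char_is_prime_or_zero K p).resolve_right (CharP.char_ne_zero_of_finite K p)⟩
    have h1 := (CharP.cast_eq_zero_iff K p s).1 h
    have h2 : p = s := (Nat.prime_dvd_prime_iff_eq hpp.out hs).1 h1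
    subst h2
    have h3 : p ∣ Nat.card K := by
      rw [Nat.card_eq_fintype_card, ← CharP.cast_eq_zero_iff K p]
      exact Nat.cast_card_eq_zero K
    have h6 : p ∣ Nat.card K ^ 2 := dvd_pow h3 (by norm_num)
    have h8 : p ∣ 1 := by
      have := Nat.dvd_sub h6 hd
      rwa [Nat.sub_sub_self (Nat.one_le_pow _ _ (by omega))] at this
    have := Nat.le_of_dvd one_pos h8
    omega
  have hy : orderOf (x * x) = s := by
    rw [← pow_two, orderOf_pow, hx]
    have : Nat.gcd s 2 = 1 := by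
      rw [← Nat.coprime_iff_gcd_eq_one, Nat.coprime_primes hs Nat.prime_two]
      omega
    rw [this, Nat.div_one]
  refine ⟨s, x, x * x, hs, hs5, hd, hx, hy, fun A hA => ?_⟩
  exact pair_of_trace (trace_ne hs (by omega) hsK hx) (trace_ne hs (by omega) hsK hy) (trace_sq_ne hs hs5 hsK hx) A hA

end

/-- **diagonalisation** -/
theorem exists_dd {K : Type u} [Field K] [Finite K] {s : ℕ} (hs : s.Prime) (h3 : 3 ≤ s) (hsK : (s : K) ≠ 0)
    {x : Matrix.SpecialLinearGroup (Fin 2) K} (hx : orderOf x = s) :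
    ∃ (K' : Type u) (_ : Field K') (_ : Finite K') (ι : K →+* K') (c : K'ˣ)
      (Q : Matrix.SpecialLinearGroup (Fin 2) K'), Matrix.SpecialLinearGroup.map ι x =
        Q * Cfsg.Agent.FixBN.FieldRGD.dd (c : K') c.ne_zero * Q⁻¹ ∧ c ≠ 1 ∧ c ^ s = 1 := by
  have ht := trace_ne hs h3 hsK hx
  set f : K[X] := (x : Matrix (Fin 2) (Fin 2) K).charpoly with hf
  have hm : f.Monic := Matrix.charpoly_monic _
  have hfe : f = X ^ 2 - C (x.1 0 0 + x.1 1 1) * X + C 1 := by
    rw [hf, Matrix.charpoly_fin_two, Matrix.trace_fin_two, x.2]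
  have hfin : Finite f.SplittingField := Module.finite_of_finite K
  set ι : K →+* f.SplittingField := algebraMap K f.SplittingField with hι
  have hsp := SplittingField.splits f
  have hdeg : (f.map ι).natDegree = 2 := by
    rw [natDegree_map, hf, Matrix.charpoly_natDegree_eq_dim, Fintype.card_fin]
  have hcard : (f.map ι).roots.card = 2 := by
    rw [← hdeg]
    exact (Splits.natDegree_eq_card_roots hsp).symm
  obtain ⟨a, b, hab⟩ := Multiset.card_eq_two.1 hcard
  have hfm : f.map ι = (X - C a) * (X - C b) := by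
    have h1 := Splits.eq_prod_roots_of_monic hsp (hm.map ι)
    rw [hab] at h1
    rw [h1]
    simp
  have hfm' : f.map ι = X ^ 2 - C (ι (x.1 0 0 + x.1 1 1)) * X + C 1 :=
    (congrArg (fun g : K[X] => Polynomial.map ι g) hfe).trans (by simp)
  have h10 : a + b = ι (x.1 0 0 + x.1 1 1) ∧ a * b = 1 := by
    have h1 := hfm.symm.trans hfm'
    have h2 : (X - C a) * (X - C b) = X ^ 2 - C (a + b) * X + C (a * b) := by
      rw [C_add, C_mul]
      ring
    rw [h2] at h1
    have c0 := congrArg (fun g => coeff g 0) h1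
    have c1 := congrArg (fun g => coeff g 1) h1
    simp [coeff_X, coeff_one] at c0 c1
    exact ⟨by rw [map_add]; linear_combination -c1, c0⟩
  obtain ⟨hs1, hp1⟩ := h10
  have hne : a ≠ b := by
    rintro rfl
    apply ht
    apply ι.injective
    rw [map_pow, ← hs1]
    have h4 : ι 4 = 4 := map_ofNat ι 4
    rw [h4]
    linear_combination 4 * hp1
  have hinj : Function.Injective (![a, b] : Fin 2 → f.SplittingField) := by
    intro i j hij
    fin_cases i <;> fin_cases j
    · rfl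
    · exact absurd hij hne
    · exact absurd hij.symm hne
    · rfl
  have hM : ((SpecialLinearGroup.map ι x : SpecialLinearGroup (Fin 2) f.SplittingField) :
      Matrix (Fin 2) (Fin 2) f.SplittingField).charpoly = ∏ i, (X - C ((![a, b] : Fin 2 → f.SplittingField) i)) := by
    rw [Fin.prod_univ_two]
    exact (Matrix.charpoly_map (x : Matrix (Fin 2) (Fin 2) K) ι).trans hfm
  obtain ⟨P, hP⟩ := Cfsg.Agent.H194.Ore.exists_diag hinj hM (by norm_num)
  have ha0 : a ≠ 0 := fun h => by rw [h, zero_mul] at hp1; exact zero_ne_one hp1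
  have hb : b = a⁻¹ := eq_inv_of_mul_eq_one_right hp1
  have hdd : ((Cfsg.Agent.FixBN.FieldRGD.dd a ha0 : SL(2, f.SplittingField)) :
      Matrix (Fin 2) (Fin 2) f.SplittingField) = diagonal ![a, b] := by
    rw [hb]
    show !![a, 0; 0, a⁻¹] = _
    ext i j
    fin_cases i <;> fin_cases j <;> simp
  have hconj : SpecialLinearGroup.map ι x = P * Cfsg.Agent.FixBN.FieldRGD.dd a ha0 * P⁻¹ := by
    rw [eq_mul_inv_iff_mul_eq]
    apply Subtype.ext
    show ((SpecialLinearGroup.map ι x : SpecialLinearGroup (Fin 2) f.SplittingField) :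
      Matrix (Fin 2) (Fin 2) f.SplittingField) * (P : Matrix (Fin 2) (Fin 2) f.SplittingField) =
      (P : Matrix (Fin 2) (Fin 2) f.SplittingField) * (Cfsg.Agent.FixBN.FieldRGD.dd a ha0 :
        SL(2, f.SplittingField))
    rw [hP, hdd]
  refine ⟨f.SplittingField, inferInstance, hfin, ι, Units.mk0 a ha0, P, hconj, ?_, ?_⟩
  · intro h
    have h1 : a = 1 := congrArg Units.val h
    apply hne
    rw [hb, h1, inv_one]
  · have h1 : (P * Cfsg.Agent.FixBN.FieldRGD.dd a ha0 * P⁻¹) ^ s = 1 := by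
      rw [← hconj, ← map_pow, ← hx, pow_orderOf_eq_one, map_one]
    rw [conj_pow] at h1
    have h2 : (Cfsg.Agent.FixBN.FieldRGD.dd a ha0 : SL(2, f.SplittingField)) ^ s = 1 := by
      have h3 : (Cfsg.Agent.FixBN.FieldRGD.dd a ha0 : SL(2, f.SplittingField)) ^ s =
          P⁻¹ * (P * (Cfsg.Agent.FixBN.FieldRGD.dd a ha0) ^ s * P⁻¹) * P := by group
      rw [h3, h1]
      group
    have h3 : ∀ k : ℕ, ((Cfsg.Agent.FixBN.FieldRGD.dd a ha0 : SL(2, f.SplittingField)) ^ k).1 0 0 = a ^ k ∧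
        ((Cfsg.Agent.FixBN.FieldRGD.dd a ha0 : SL(2, f.SplittingField)) ^ k).1 0 1 = 0 := by
      intro k
      induction k with
      | zero => simp
      | succ k ih =>
        have h4 : ((Cfsg.Agent.FixBN.FieldRGD.dd a ha0 : SL(2, f.SplittingField)) ^ (k + 1)).1 =
            ((Cfsg.Agent.FixBN.FieldRGD.dd a ha0 : SL(2, f.SplittingField)) ^ k).1 * !![a, 0; 0, a⁻¹] := by
          rw [pow_succ]
          rfl
        rw [h4]
        constructor
        · rw [Matrix.mul_apply, Fin.sum_univ_two, ih.1, ih.2]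
          simp [pow_succ]
        · rw [Matrix.mul_apply, Fin.sum_univ_two, ih.1, ih.2]
          simp
    apply Units.ext
    have h4 := (h3 s).1
    rw [h2] at h4
    simp at h4
    rw [Units.val_pow_eq_pow_val, Units.val_one, Units.val_mk0]
    exact h4.symm

end Cfsg.Agent.H357.T6
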